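import Groth.Prelude.Def_W4c6equivkfinstabCyc
import Mathlib.RingTheory.Polynomial.Cyclotomic.Roots
import Mathlib.RingTheory.IntegralDomain
import Mathlib.GroupTheory.QuotientGroup.Basic
import Mathlib.Tactic.Ring

/-! Primes of a group ring and the cyclotomic quotients. -/

set_option autoImplicit false
universe u v

open AddMonoidAlgebra Polynomial W4c6equivkfinstab

namespace Groth.Agent.CycQuotLib

noncomputable section

variable {Λ : Type u} [CommRing Λ] {M : Type v} [AddCommGroup M]

/-- The group element `m` in the group ring. -/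
abbrev el (m : M) : AddMonoidAlgebra Λ M := AddMonoidAlgebra.single m (1 : Λ)

/-- The elements congruent to `1` modulo `P`. -/
def ker (P : Ideal (AddMonoidAlgebra Λ M)) : AddSubgroup M where
  carrier := {m | el m - 1 ∈ P}
  zero_mem' := by
    show el (0 : M) - 1 ∈ P
    rw [show el (Λ := Λ) (0 : M) = 1 from rfl, sub_self]; exact P.zero_mem
  add_mem' {a b} ha hb := by
    show el (a + b) - 1 ∈ P
    rw [show el (Λ := Λ) (a + b) - 1 = el a * (el b - 1) + (el a - 1) by
      simp only [el, mul_sub, AddMonoidAlgebra.single_mul_single, mul_one]; abel]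
    exact P.add_mem (P.mul_mem_left _ hb) ha
  neg_mem' {a} ha := by
    show el (-a) - 1 ∈ P
    rw [show el (Λ := Λ) (-a) - 1 = -(el (-a) * (el a - 1)) by
      simp only [el, mul_sub, AddMonoidAlgebra.single_mul_single, mul_one, neg_add_cancel]
      rw [← AddMonoidAlgebra.one_def]; abel]
    exact P.neg_mem (P.mul_mem_left _ ha)

theorem quotMap_el (B : AddSubgroup M) (m : M) :
    quotMap Λ M B (el m) = el (QuotientAddGroup.mk' B m) := AddMonoidAlgebra.mapDomain_single

theorem quotMap_single (B : AddSubgroup M) (m : M) (r : Λ) :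
    quotMap Λ M B (AddMonoidAlgebra.single m r) = AddMonoidAlgebra.single (QuotientAddGroup.mk' B m) r :=
  AddMonoidAlgebra.mapDomain_single

theorem quotMap_surjective (B : AddSubgroup M) : Function.Surjective (quotMap Λ M B) :=
  fun y => ⟨AddMonoidAlgebra.mapDomain (Function.surjInv (QuotientAddGroup.mk'_surjective B)) y, by
    induction y using AddMonoidAlgebra.induction_linear with
    | zero => simp
    | add f g hf hg => rw [AddMonoidAlgebra.mapDomain_add, map_add, hf, hg]
    | single m r => rw [AddMonoidAlgebra.mapDomain_single, quotMap_single, Function.surjInv_eq (QuotientAddGroup.mk'_surjective B)]⟩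

theorem ker_quotMap_le (B : AddSubgroup M) (I : Ideal (AddMonoidAlgebra Λ M))
    (h : ∀ b ∈ B, el b - 1 ∈ I) {x : AddMonoidAlgebra Λ M} (hx : quotMap Λ M B x = 0) : x ∈ I := by
  let sec : M ⧸ B → M := Function.surjInv (QuotientAddGroup.mk'_surjective B)
  have key : ∀ x : AddMonoidAlgebra Λ M, x - AddMonoidAlgebra.mapDomain sec (quotMap Λ M B x) ∈ I := by
    intro x
    induction x using AddMonoidAlgebra.induction_linear with
    | zero => simp
    | add f g hf hg =>
      rw [map_add, AddMonoidAlgebra.mapDomain_add, add_sub_add_comm]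
      exact I.add_mem hf hg
    | single m r =>
      rw [quotMap_single, AddMonoidAlgebra.mapDomain_single]
      set s := sec (QuotientAddGroup.mk' B m)
      have hs : m - s ∈ B := by
        rw [← QuotientAddGroup.eq_zero_iff, QuotientAddGroup.mk_sub, sub_eq_zero]
        exact (Function.surjInv_eq (QuotientAddGroup.mk'_surjective B) _).symm
      rw [show AddMonoidAlgebra.single m r - AddMonoidAlgebra.single s r =
        AddMonoidAlgebra.single s r * (el (m - s) - 1) by
        simp [el, mul_sub, AddMonoidAlgebra.single_mul_single]]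
      exact I.mul_mem_left _ (h _ hs)
  simpa [hx] using key x

theorem el_nsmul (n : ℕ) (g : M) : el (Λ := Λ) (n • g) = el g ^ n := by
  rw [el, AddMonoidAlgebra.single_pow, one_pow]

theorem hom_cyclotomic {R : Type*} [CommRing R] (f : AddMonoidAlgebra Λ M →+* R) (x : AddMonoidAlgebra Λ M) (n : ℕ) :
    f (aeval x (cyclotomic n Λ)) = (cyclotomic n R).eval (f x) := by
  rw [aeval_def, hom_eval₂, ← eval_map, map_cyclotomic]

theorem cyclotomic_mem_kerCyc (B : AddSubgroup M) (g : M)
    (hg : AddSubgroup.zmultiples (QuotientAddGroup.mk' B g) = ⊤) :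
    cycQuotMap Λ M B (aeval (el (Λ := Λ) g) (cyclotomic B.index Λ)) = 0 := by
  rw [cycQuotMap, RingHom.comp_apply, Ideal.Quotient.eq_zero_iff_mem]
  refine Ideal.subset_span ⟨QuotientAddGroup.mk' B g, hg, ?_⟩
  rw [aeval_def, aeval_def, hom_eval₂, quotMap_el]
  congr 1
  exact RingHom.ext fun r => quotMap_single B 0 r

theorem natCast_notMem {P : Ideal (AddMonoidAlgebra Λ M)} [P.IsPrime] {n : ℕ} (hu : IsUnit (n : Λ)) :
    (n : AddMonoidAlgebra Λ M) ∉ P := by
  intro h
  have : IsUnit (n : AddMonoidAlgebra Λ M) := by simpa using hu.map (algebraMap Λ (AddMonoidAlgebra Λ M))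
  exact ‹P.IsPrime›.ne_top (P.eq_top_of_isUnit_mem h this)

variable (P : Ideal (AddMonoidAlgebra Λ M)) [P.IsPrime]

theorem ker_eq_of_le (B : AddSubgroup M) [B.FiniteIndex] [IsAddCyclic (M ⧸ B)] (hu : IsUnit (B.index : Λ))
    (hle : RingHom.ker (cycQuotMap Λ M B) ≤ P) : ker P = B := by
  have hBP : B ≤ ker P := fun b hb => hle (by
    rw [RingHom.mem_ker, cycQuotMap, RingHom.comp_apply, map_sub, quotMap_el, map_one]
    rw [QuotientAddGroup.mk'_apply, (QuotientAddGroup.eq_zero_iff b).2 hb,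
      show el (Λ := Λ) (0 : M ⧸ B) = 1 from rfl, sub_self, map_zero])
  refine le_antisymm (fun m hm => ?_) hBP
  obtain ⟨g', hg'⟩ := IsAddCyclic.exists_generator (α := M ⧸ B)
  obtain ⟨g, rfl⟩ := QuotientAddGroup.mk'_surjective B g'
  replace hg' : AddSubgroup.zmultiples (QuotientAddGroup.mk' B g) = ⊤ := eq_top_iff.2 fun x _ => hg' x
  have : NeZero ((B.index : ℕ) : AddMonoidAlgebra Λ M ⧸ P) := ⟨fun h => natCast_notMem (P := P) hu
    (Ideal.Quotient.eq_zero_iff_mem.1 (by rwa [map_natCast]))⟩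
  have hr : IsPrimitiveRoot (Ideal.Quotient.mk P (el g)) B.index := by
    rw [← isRoot_cyclotomic_iff, IsRoot, ← hom_cyclotomic, Ideal.Quotient.eq_zero_iff_mem]
    exact hle (cyclotomic_mem_kerCyc B g hg')
  obtain ⟨j, hj⟩ := mem_multiples_iff_mem_zmultiples.2
    (hg' ▸ AddSubgroup.mem_top _ : QuotientAddGroup.mk' B m ∈ AddSubgroup.zmultiples (QuotientAddGroup.mk' B g))
  have hb : j • g - m ∈ B := by
    rw [← QuotientAddGroup.eq_zero_iff, QuotientAddGroup.mk_sub, sub_eq_zero]
    exact (map_nsmul (QuotientAddGroup.mk' B) j g).trans hj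
  have h1 : j • g ∈ ker P := by simpa using (ker P).add_mem (hBP hb) hm
  have h2 : (Ideal.Quotient.mk P (el g)) ^ j = 1 := by
    rw [← map_pow, ← el_nsmul, ← map_one (Ideal.Quotient.mk P)]
    exact Ideal.Quotient.eq.2 h1
  obtain ⟨c, rfl⟩ := hr.dvd_of_pow_eq_one j h2
  have h3 : (B.index * c) • g ∈ B := by
    rw [mul_comm, mul_nsmul']
    exact B.nsmul_mem (AddSubgroup.nsmul_index_mem B g) c
  simpa using B.sub_mem h3 hb

/-- A prime determines a cyclic quotient, and the cyclotomic kernel dies at that prime. -/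
theorem exists_killing (B₀ : AddSubgroup M) [B₀.FiniteIndex] (hu : IsUnit (B₀.index : Λ))
    (hle : RingHom.ker (quotMap Λ M B₀) ≤ P) :
    B₀ ≤ ker P ∧ IsAddCyclic (M ⧸ ker P) ∧
      ∀ x, cycQuotMap Λ M (ker P) x = 0 → ∃ t ∉ P, quotMap Λ M B₀ (t * x) = 0 := by
  have hB₀ : B₀ ≤ ker P := fun b hb => hle (by
    rw [RingHom.mem_ker, map_sub, quotMap_el, map_one, QuotientAddGroup.mk'_apply,
      (QuotientAddGroup.eq_zero_iff b).2 hb, show el (Λ := Λ) (0 : M ⧸ B₀) = 1 from rfl, sub_self])
  have : (ker P).FiniteIndex := AddSubgroup.finiteIndex_of_le hB₀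
  have : Finite (M ⧸ ker P) := AddSubgroup.finite_quotient_of_finiteIndex
  let f : M →+ Additive (AddMonoidAlgebra Λ M ⧸ P) :=
    MonoidHom.toAdditiveRight ((Ideal.Quotient.mk P).toMonoidHom.comp (AddMonoidAlgebra.of Λ M))
  have hf : ∀ m, m ∈ ker P ↔ f m = 0 := fun m => by
    show el m - 1 ∈ P ↔ Ideal.Quotient.mk P (el m) = 1
    rw [← map_one (Ideal.Quotient.mk P), Ideal.Quotient.eq]
  let g : M ⧸ ker P →+ Additive (AddMonoidAlgebra Λ M ⧸ P) :=
    QuotientAddGroup.lift (ker P) f fun m hm => (hf m).1 hm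
  have hg : ∀ a, g a = 0 → a = 0 := by
    intro a ha
    obtain ⟨m, rfl⟩ := QuotientAddGroup.mk_surjective a
    exact (QuotientAddGroup.eq_zero_iff m).2 ((hf m).2 ha)
  have hcyc : IsAddCyclic (M ⧸ ker P) := by
    rw [← isCyclic_multiplicative_iff]
    exact isCyclic_of_injective_ringHom (AddMonoidHom.toMultiplicativeLeft g)
      ((injective_iff_map_eq_one _).2 fun a ha => hg a.toAdd ha)
  refine ⟨hB₀, hcyc, fun x hx => ?_⟩
  let S : Ideal (AddMonoidAlgebra Λ M) :=
    { carrier := {x | ∃ t ∉ P, quotMap Λ M B₀ (t * x) = 0}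
      zero_mem' := ⟨1, fun h => ‹P.IsPrime›.ne_top ((Ideal.eq_top_iff_one P).2 h), by simp⟩
      add_mem' := by
        rintro a b ⟨s, hs, ha⟩ ⟨t, ht, hb⟩
        refine ⟨s * t, fun h => (‹P.IsPrime›.mem_or_mem h).elim hs ht, ?_⟩
        rw [show s * t * (a + b) = t * (s * a) + s * (t * b) by ring, map_add, map_mul (quotMap Λ M B₀) t, map_mul (quotMap Λ M B₀) s (t * b), ha, hb,
          mul_zero, mul_zero, add_zero]
      smul_mem' := by
        rintro c a ⟨s, hs, ha⟩
        refine ⟨s, hs, ?_⟩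
        rw [smul_eq_mul, mul_left_comm, map_mul, ha, mul_zero] }
  have hS1 : ∀ b ∈ ker P, el b - 1 ∈ S := by
    intro b hb
    refine ⟨∑ i ∈ Finset.range B₀.index, el b ^ i, fun h => natCast_notMem (P := P) hu ?_, ?_⟩
    · have : ∀ i : ℕ, Ideal.Quotient.mk P (el b ^ i) = 1 := fun i => by
        rw [map_pow, show Ideal.Quotient.mk P (el b) = 1 from (Ideal.Quotient.eq.2 hb).trans (map_one _), one_pow]
      rw [← Ideal.Quotient.eq_zero_iff_mem] at h ⊢
      rw [map_sum, Finset.sum_congr rfl fun i _ => this i] at h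
      simpa using h
    · rw [geom_sum_mul, map_sub, ← el_nsmul, quotMap_el, map_one, QuotientAddGroup.mk'_apply,
        (QuotientAddGroup.eq_zero_iff _).2 (AddSubgroup.nsmul_index_mem B₀ b),
        show el (Λ := Λ) (0 : M ⧸ B₀) = 1 from rfl, sub_self]
  rw [cycQuotMap, RingHom.comp_apply, Ideal.Quotient.eq_zero_iff_mem] at hx
  have hcycS : cycIdeal Λ (M ⧸ ker P) ≤ S.map (quotMap Λ M (ker P)) := by
    refine Ideal.span_le.2 ?_
    rintro _ ⟨g', hg', rfl⟩
    obtain ⟨g, rfl⟩ := QuotientAddGroup.mk'_surjective (ker P) g'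
    have hn : 0 < (ker P).index := Nat.pos_of_ne_zero AddSubgroup.FiniteIndex.index_ne_zero
    obtain ⟨t, ht, hS⟩ := hS1 _ (AddSubgroup.nsmul_index_mem (ker P) g)
    let pr : Λ[X] := ∏ d ∈ (ker P).index.properDivisors, cyclotomic d Λ
    have hpr : aeval (el (Λ := Λ) g) pr * aeval (el (Λ := Λ) g) (cyclotomic (ker P).index Λ) = el ((ker P).index • g) - 1 := by
      have h1 : cyclotomic (ker P).index Λ * pr = X ^ (ker P).index - 1 := by
        simp only [pr]
        rw [← prod_cyclotomic_eq_X_pow_sub_one hn Λ, ← Nat.insert_self_properDivisors hn.ne',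
          Finset.prod_insert Nat.self_notMem_properDivisors]
      rw [← map_mul, mul_comm, h1, map_sub, map_pow, aeval_X, map_one, el_nsmul]
    have hpr' : aeval (el (Λ := Λ) g) pr ∉ P := by
      intro h
      rw [← Ideal.Quotient.eq_zero_iff_mem, map_prod, map_prod, Finset.prod_eq_zero_iff] at h
      obtain ⟨d, hd, h⟩ := h
      rw [hom_cyclotomic] at h
      obtain ⟨hdvd, hlt⟩ := Nat.mem_properDivisors.1 hd
      have hdpos : 0 < d := Nat.pos_of_dvd_of_pos hdvd hn
      have hd1 : d • g ∈ ker P := by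
        show el (d • g) - 1 ∈ P
        rw [← Ideal.Quotient.eq, el_nsmul, map_pow, map_one]
        exact (isRoot_of_unity_iff hdpos _).2 ⟨d, Nat.mem_divisors_self d hdpos.ne', h⟩
      have hord : addOrderOf (QuotientAddGroup.mk' (ker P) g) = (ker P).index := by
        rw [← Nat.card_zmultiples, hg', AddSubgroup.card_top]
        rfl
      have := addOrderOf_le_of_nsmul_eq_zero hdpos (x := QuotientAddGroup.mk' (ker P) g) (by
        rw [← map_nsmul, QuotientAddGroup.mk'_apply, (QuotientAddGroup.eq_zero_iff _).2 hd1])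
      omega
    have hmem : aeval (el (Λ := Λ) g) (cyclotomic (ker P).index Λ) ∈ S := by
      refine ⟨t * aeval (el (Λ := Λ) g) pr, fun h => (‹P.IsPrime›.mem_or_mem h).elim ht hpr', ?_⟩
      rw [mul_assoc, hpr, hS]
    have h := Ideal.mem_map_of_mem (quotMap Λ M (ker P)) hmem
    have hcomp : (quotMap Λ M (ker P)).comp (algebraMap Λ (AddMonoidAlgebra Λ M)) =
        algebraMap Λ (AddMonoidAlgebra Λ (M ⧸ ker P)) := RingHom.ext fun r => quotMap_single (ker P) 0 r
    rw [aeval_def, hom_eval₂, quotMap_el, hcomp] at h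
    exact h
  obtain ⟨y, hy, hyx⟩ := (Ideal.mem_map_iff_of_surjective _ (quotMap_surjective (ker P))).1 (hcycS hx)
  have hdiff : x - y ∈ S := ker_quotMap_le (ker P) S hS1 (by rw [map_sub, hyx, sub_self])
  have h := S.add_mem hdiff hy
  rw [sub_add_cancel] at h
  exact h

end

end Groth.Agent.CycQuotLib
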