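import Groth.Agent.CycQuotLib.Basic
import Mathlib.RingTheory.Ideal.Maximal
import Mathlib.RingTheory.Ideal.Operations

/-! Decomposition of a group ring into cyclotomic quotients. -/

set_option autoImplicit false
universe u v

open AddMonoidAlgebra W4c6equivkfinstab

namespace Groth.Agent.CycQuotLib

variable {Λ : Type u} [CommRing Λ] {M : Type v} [AddCommGroup M]

theorem sup_ker_cyc_eq_top (B B' : AddSubgroup M) [B.FiniteIndex] [B'.FiniteIndex] [IsAddCyclic (M ⧸ B)]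
    [IsAddCyclic (M ⧸ B')] (hu : IsUnit (B.index : Λ)) (hu' : IsUnit (B'.index : Λ)) (hne : B ≠ B') :
    RingHom.ker (cycQuotMap Λ M B) ⊔ RingHom.ker (cycQuotMap Λ M B') = ⊤ := by
  by_contra h
  obtain ⟨P, hP, hle⟩ := Ideal.exists_le_maximal _ h
  exact hne ((ker_eq_of_le P B hu (le_sup_left.trans hle)).symm.trans
    (ker_eq_of_le P B' hu' (le_sup_right.trans hle)))

theorem sup_ker_quot_eq_top (B₀ B : AddSubgroup M) [B₀.FiniteIndex] [B.FiniteIndex] [IsAddCyclic (M ⧸ B)]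
    (hu₀ : IsUnit (B₀.index : Λ)) (hu : IsUnit (B.index : Λ)) (hle : ¬ B₀ ≤ B) :
    RingHom.ker (quotMap Λ M B₀) ⊔ RingHom.ker (cycQuotMap Λ M B) = ⊤ := by
  by_contra h
  obtain ⟨P, hP, hPle⟩ := Ideal.exists_le_maximal _ h
  exact hle (ker_eq_of_le P B hu (le_sup_right.trans hPle) ▸
    (exists_killing P B₀ hu₀ (le_sup_left.trans hPle)).1)

theorem exists_mem_ker_eq_one {B : AddSubgroup M} {I : Ideal (AddMonoidAlgebra Λ M)}
    (h : I ⊔ RingHom.ker (cycQuotMap Λ M B) = ⊤) : ∃ s ∈ I, cycQuotMap Λ M B s = 1 := by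
  obtain ⟨x, hx, y, hy, hxy⟩ := Submodule.mem_sup.1 (h.symm ▸ Submodule.mem_top : (1 : AddMonoidAlgebra Λ M) ∈ I ⊔ _)
  refine ⟨x, hx, ?_⟩
  have := congrArg (cycQuotMap Λ M B) hxy
  rwa [map_add, RingHom.mem_ker.1 hy, add_zero, map_one] at this

variable (B₀ : AddSubgroup M) [B₀.FiniteIndex]

theorem index_unit {B : AddSubgroup M} (h : B₀ ≤ B) (hu : IsUnit (B₀.index : Λ)) : IsUnit (B.index : Λ) := by
  obtain ⟨c, hc⟩ := AddSubgroup.index_dvd_of_le h
  rw [hc, Nat.cast_mul] at hu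
  exact isUnit_of_mul_isUnit_left hu

theorem quot_eq_zero_of_forall (hu : IsUnit (B₀.index : Λ)) (x : AddMonoidAlgebra Λ M)
    (hx : ∀ B : AddSubgroup M, B₀ ≤ B → IsAddCyclic (M ⧸ B) → cycQuotMap Λ M B x = 0) :
    quotMap Λ M B₀ x = 0 := by
  let I : Ideal (AddMonoidAlgebra Λ M) :=
    { carrier := {t | quotMap Λ M B₀ (t * x) = 0}
      zero_mem' := by simp
      add_mem' := fun {a b} ha hb => by
        show quotMap Λ M B₀ ((a + b) * x) = 0
        rw [add_mul, map_add, show quotMap Λ M B₀ (a * x) = 0 from ha, show quotMap Λ M B₀ (b * x) = 0 from hb,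
          add_zero]
      smul_mem' := fun c a ha => by
        show quotMap Λ M B₀ (c * a * x) = 0
        rw [mul_assoc, map_mul, show quotMap Λ M B₀ (a * x) = 0 from ha, mul_zero] }
  have htop : I = ⊤ := by
    by_contra h
    obtain ⟨P, hP, hle⟩ := Ideal.exists_le_maximal _ h
    obtain ⟨h1, h2, h3⟩ := exists_killing P B₀ hu (fun t ht => hle (by
      show quotMap Λ M B₀ (t * x) = 0
      rw [map_mul, RingHom.mem_ker.1 ht, zero_mul]))
    obtain ⟨t, ht, ht'⟩ := h3 x (hx _ h1 h2)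
    exact ht (hle ht')
  have h1 : quotMap Λ M B₀ (1 * x) = 0 := (htop.symm ▸ Submodule.mem_top : (1 : AddMonoidAlgebra Λ M) ∈ I)
  rwa [one_mul] at h1

theorem finite_index : Finite {B : AddSubgroup M // B₀ ≤ B ∧ IsAddCyclic (M ⧸ B)} := by
  have := AddSubgroup.finite_quotient_of_finiteIndex (H := B₀)
  have : Finite (AddSubgroup (M ⧸ B₀)) := Finite.of_injective _ SetLike.coe_injective
  refine Finite.of_injective (fun B => B.1.map (QuotientAddGroup.mk' B₀)) fun B B' h => Subtype.ext ?_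
  have := congrArg (AddSubgroup.comap (QuotientAddGroup.mk' B₀)) h
  rwa [AddSubgroup.comap_map_eq_self (by simpa using B.2.1),
    AddSubgroup.comap_map_eq_self (by simpa using B'.2.1)] at this

theorem exists_idempotents (hu : IsUnit (B₀.index : Λ)) :
    ∃ e : {B : AddSubgroup M // B₀ ≤ B ∧ IsAddCyclic (M ⧸ B)} → AddMonoidAlgebra Λ M,
      (∀ B, cycQuotMap Λ M B.1 (e B) = 1) ∧ ∀ B B', B' ≠ B → cycQuotMap Λ M B'.1 (e B) = 0 := by
  classical
  have := finite_index B₀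
  have := Fintype.ofFinite {B : AddSubgroup M // B₀ ≤ B ∧ IsAddCyclic (M ⧸ B)}
  have key : ∀ B : {B : AddSubgroup M // B₀ ≤ B ∧ IsAddCyclic (M ⧸ B)},
      ∃ s ∈ ⨅ B' ∈ Finset.univ.erase B, RingHom.ker (cycQuotMap Λ M B'.1), cycQuotMap Λ M B.1 s = 1 := by
    intro B
    refine exists_mem_ker_eq_one ?_
    rw [sup_comm]
    refine Ideal.sup_iInf_eq_top fun B' hB' => ?_
    have := AddSubgroup.finiteIndex_of_le B.2.1
    have := AddSubgroup.finiteIndex_of_le B'.2.1
    have := B.2.2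
    have := B'.2.2
    exact sup_ker_cyc_eq_top B.1 B'.1 (index_unit B₀ B.2.1 hu) (index_unit B₀ B'.2.1 hu)
      fun h => (Finset.mem_erase.1 hB').1 (Subtype.ext h.symm)
  choose e he he1 using key
  refine ⟨e, he1, fun B B' h => ?_⟩
  have := he B
  simp only [Submodule.mem_iInf] at this
  exact this B' (Finset.mem_erase.2 ⟨h, Finset.mem_univ _⟩)

end Groth.Agent.CycQuotLib
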